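import Cfsg.Agent.Lib.SixRec90.Cases

/-!
The involution `t` lies outside the subgroup of index two: recognition of `Sym 6`.
-/

set_option autoImplicit false

namespace Cfsg.Agent.Lib.SixRec90

open Cfsg

theorem dihedral_card : Nat.card (DihedralGroup 4) = 8 := DihedralGroup.nat_card

theorem r0_pow_mem : ∀ k : Fin 4, r0 ^ (k : ℕ) * r0 ^ (k : ℕ) = 1 →
    r0 ^ (k : ℕ) = 1 ∨ r0 ^ (k : ℕ) = z0 := by decide +kernel

theorem r0_pow_four : r0 ^ 4 = 1 := by decide +kernel

theorem orderOf_r0 : orderOf r0 = 4 := by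
  haveI : Fact (Nat.Prime 2) := ⟨Nat.prime_two⟩
  exact orderOf_eq_prime_pow (p := 2) (n := 1) (by decide +kernel) (by decide +kernel)

theorem invol_cases' : ∀ s : S4, ¬ (s * z0 = z0 * s ∧ s * s = 1) ∨ s = 1 ∨
    (∃ p : S4, p * z0 * p⁻¹ = s ∨ p * a0 * p⁻¹ = s) := by
  decide +kernel

theorem invol_cases (s : S4) (h1 : s * z0 = z0 * s) (h2 : s * s = 1) :
    s = 1 ∨ (∃ p : S4, p * z0 * p⁻¹ = s) ∨ (∃ p : S4, p * a0 * p⁻¹ = s) := by
  rcases invol_cases' s with h | h | ⟨p, h | h⟩
  · exact absurd ⟨h1, h2⟩ h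
  · exact Or.inl h
  · exact Or.inr (Or.inl ⟨p, h⟩)
  · exact Or.inr (Or.inr ⟨p, h⟩)

/-- The order of `SL₃(2)`. -/
theorem card_sl32 : Nat.card (Matrix.SpecialLinearGroup (Fin 3) (ZMod 2)) = 168 := by
  haveI : Fact (Nat.Prime 2) := ⟨Nat.prime_two⟩
  have h := LinGroup.card_SL_mul (F := ZMod 2) 3 (by norm_num)
  simp only [ZMod.card] at h
  rw [Fin.prod_univ_three] at h
  norm_num at h
  rw [Nat.card_eq_fintype_card]
  exact h

/-- `SL₃(2)` is simple. -/
theorem isSimple_sl32 : IsSimpleGroup (Matrix.SpecialLinearGroup (Fin 3) (ZMod 2)) := by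
  haveI : Fact (Nat.Prime 2) := ⟨Nat.prime_two⟩
  haveI hs : IsSimpleGroup (Matrix.ProjectiveSpecialLinearGroup (Fin 3) (ZMod 2)) :=
    LinGroup.isSimpleGroup_PSL_fin (by norm_num) (by norm_num)
  have hz : Subgroup.center (Matrix.SpecialLinearGroup (Fin 3) (ZMod 2)) = ⊥ := by
    apply Subgroup.eq_bot_of_card_eq
    rw [LinGroup.card_center_SL]
    simp
  exact ((QuotientGroup.quotientMulEquivOfEq hz).trans
    QuotientGroup.quotientBot).symm.isSimpleGroup

theorem card_a6 : Nat.card (alternatingGroup (Fin 6)) = 360 := by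
  rw [nat_card_alternatingGroup, Nat.card_eq_fintype_card, Fintype.card_fin]
  rfl

namespace Setting

variable {G : Type*} [Group G] [Finite G] (c : Setting G) {H : Subgroup G}

theorem z_invol_H (hjH : ∀ s, c.j s ∈ H) : orderOf (⟨c.j z0, hjH z0⟩ : H) = 2 := by
  rw [← Subgroup.orderOf_coe]
  exact c.orderOf_z

/-- The centraliser of `z` in `H` is dihedral. -/
theorem centH_equiv (htH : c.t ∉ H) (hjH : ∀ s, c.j s ∈ H) :
    Nonempty (↥(Subgroup.centralizer ({⟨c.j z0, hjH z0⟩} : Set H)) ≃* DihedralGroup 4) := by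
  let f : DihedralGroup 4 →* ↥(Subgroup.centralizer ({⟨c.j z0, hjH z0⟩} : Set H)) :=
    MonoidHom.mk' (fun d => ⟨⟨c.j (dmap d), hjH _⟩, by
      rw [Subgroup.mem_centralizer_singleton_iff]
      exact Subtype.ext (c.z_commutes (dmap_mem d) (Or.inl rfl))⟩) fun x y => by
      refine Subtype.ext (Subtype.ext ?_)
      show c.j (dmap (x * y)) = c.j (dmap x) * c.j (dmap y)
      rw [dmap_mul, map_mul]
  refine ⟨(MulEquiv.ofBijective f ⟨?_, ?_⟩).symm⟩
  · intro x y h
    exact dmap_inj x y (c.inj (congrArg (fun u => ((u.1 : H) : G)) h))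
  · rintro ⟨⟨g, hg⟩, hc⟩
    have hc' := congrArg Subtype.val (Subgroup.mem_centralizer_singleton_iff.1 hc)
    obtain ⟨s, hs, rfl | rfl⟩ := c.centZ g hc'
    · obtain ⟨d, rfl⟩ := dmap_surj s hs
      exact ⟨d, rfl⟩
    · exact absurd (by simpa using H.mul_mem hg (H.inv_mem (hjH s))) htH

theorem cent_inf (htH : c.t ∉ H) (hjH : ∀ s, c.j s ∈ H) {g : G} (hg : g ∈ H)
    (h : g * c.t = c.t * g) : g ∈ c.j.range := by
  obtain ⟨s, rfl | rfl⟩ := c.cent g h
  · exact ⟨s, rfl⟩
  · exact absurd (by simpa using H.mul_mem hg (H.inv_mem (hjH s))) htH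

/-- A normal subgroup meeting `H` trivially is trivial unless `t` is central. -/
theorem normal_eq_bot (hH : H.index = 2) (hjH : ∀ s, c.j s ∈ H) (K : Subgroup G) [K.Normal]
    (hK : K ⊓ H = ⊥) : K = ⊥ ∨ Subgroup.centralizer ({c.t} : Set G) = ⊤ := by
  haveI := Subgroup.normal_of_index_eq_two hH
  by_cases hb : K = ⊥
  · exact Or.inl hb
  refine Or.inr ?_
  obtain ⟨u, hu, hu1⟩ := K.ne_bot_iff_exists_ne_one.1 hb |>.elim fun x hx =>
    (⟨(x : G), x.2, fun e => hx (Subtype.ext e)⟩ : ∃ u ∈ K, u ≠ 1)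
  have hnot : u ∉ H := fun h => hu1 (by rw [← Subgroup.mem_bot, ← hK]; exact ⟨hu, h⟩)
  have hcent : ∀ g : G, g * u = u * g := by
    intro g
    have h1 : g * u * g⁻¹ ∈ K := ‹K.Normal›.conj_mem u hu g
    have h2 : g * u * g⁻¹ ∉ H := fun h => hnot (by
      have := (‹H.Normal›.conj_mem _ h g⁻¹)
      simpa [mul_assoc] using this)
    have h3 : g * u * g⁻¹ * u⁻¹ ∈ (⊥ : Subgroup G) := by
      rw [← hK]
      exact ⟨K.mul_mem h1 (K.inv_mem hu), (Subgroup.mul_mem_iff_of_index_two hH).2
        ⟨fun h => absurd h h2, fun h => absurd (inv_mem_iff.1 h) hnot⟩⟩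
    rw [Subgroup.mem_bot, mul_inv_eq_one, mul_inv_eq_iff_eq_mul] at h3
    exact h3
  obtain ⟨s, hs⟩ := c.cent u (hcent c.t).symm
  have hs' : u = c.t * c.j s := hs.resolve_left fun e => hnot (e ▸ hjH s)
  have hs1 : s = 1 := center_trivial s fun p => c.inj (by
    rw [map_mul, map_mul]
    have h := hcent (c.j p)
    rw [hs', ← mul_assoc, c.comm_t_j, mul_assoc, mul_assoc] at h
    exact (mul_left_cancel h).symm)
  rw [hs1, map_one, mul_one] at hs'
  refine eq_top_iff.2 fun x _ => ?_
  rw [Subgroup.mem_centralizer_singleton_iff, ← hs']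
  exact hcent x

/-- A normal subgroup centralised by `t` meets `H` in at most 24 elements. -/
theorem card_inf_le (htH : c.t ∉ H) (hjH : ∀ s, c.j s ∈ H) {K : Subgroup G}
    (hK : K ≤ Subgroup.centralizer ({c.t} : Set G)) : Nat.card (K.subgroupOf H) ≤ 24 := by
  have hle : K ⊓ H ≤ c.j.range := fun g hg =>
    c.cent_inf htH hjH hg.2 (Subgroup.mem_centralizer_singleton_iff.1 (hK hg.1))
  rw [← Subgroup.card_map_of_injective H.subtype_injective, Subgroup.subgroupOf_map_subtype]
  calc Nat.card ↥(K ⊓ H) ≤ Nat.card c.j.range :=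
        Nat.le_of_dvd Nat.card_pos (Subgroup.card_dvd_of_le hle)
    _ = Nat.card S4 := (Nat.card_congr (MonoidHom.ofInjective c.inj).toEquiv).symm
    _ = 24 := by rw [Nat.card_eq_fintype_card]; decide

variable (hH : H.index = 2) (hjH : ∀ s, c.j s ∈ H) (htH : c.t ∉ H)

include hH in
theorem card_G : Nat.card G = 2 * Nat.card H := by
  rw [← H.index_mul_card, hH]

include hH htH hjH in
theorem case_s5 (φ : H ≃* Equiv.Perm (Fin 5)) : Subgroup.centralizer ({c.t} : Set G) = ⊤ := by
  haveI := Subgroup.normal_of_index_eq_two hH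
  set C := Subgroup.centralizer ({c.t} : Set G) with hC
  have hcard : Nat.card G = 240 := by
    rw [card_G hH, Nat.card_congr φ.toEquiv, Nat.card_eq_fintype_card, Fintype.card_perm,
      Fintype.card_fin]
    rfl
  have hi : C.index = 5 := by
    have := C.index_mul_card
    rw [hC, c.card_cent, hcard, ← hC] at this
    omega
  set K := C.normalCore
  have hKH : K ⊓ H = ⊥ := by
    have h24 := c.card_inf_le htH hjH (K := K) C.normalCore_le
    rw [← Subgroup.subgroupOf_map_subtype, Subgroup.map_eq_bot_iff_of_injective _ H.subtype_injective]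
    by_contra hne
    haveI hn : ((K.subgroupOf H).map φ.toMonoidHom).Normal :=
      Subgroup.Normal.map inferInstance _ φ.surjective
    have hnt : Nontrivial ((K.subgroupOf H).map φ.toMonoidHom) := by
      rw [Subgroup.nontrivial_iff_ne_bot]
      exact fun e => hne ((Subgroup.map_eq_bot_iff_of_injective _ φ.injective).1 e)
    have hle := Equiv.Perm.alternatingGroup_le_of_normal (α := Fin 5) (by simp) hnt
    have h60 := Nat.le_of_dvd Nat.card_pos (Subgroup.card_dvd_of_le hle)
    rw [Subgroup.card_map_of_injective (f := φ.toMonoidHom) φ.injective, nat_card_alternatingGroup,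
      Nat.card_eq_fintype_card, Fintype.card_fin, show Nat.factorial 5 / 2 = 60 from rfl] at h60
    omega
  rcases c.normal_eq_bot hH hjH K hKH with hK | hK
  · have hinj : Function.Injective (MulAction.toPermHom G (G ⧸ C)) := by
      rw [← MonoidHom.ker_eq_bot_iff, ← Subgroup.normalCore_eq_ker]
      exact hK
    have h := Nat.card_le_card_of_injective _ hinj
    rw [Nat.card_perm, show Nat.card (G ⧸ C) = 5 from hi, hcard] at h
    norm_num [Nat.factorial] at h
  · exact hK

include hH htH hjH in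
theorem case_sl32 (hodd : ¬ 2 ∣ (Subgroup.centralizer ({c.j z0} : Set G)).index)
    (φ : H ≃* Matrix.SpecialLinearGroup (Fin 3) (ZMod 2)) : False := by
  haveI := Subgroup.normal_of_index_eq_two hH
  haveI : Fact (Nat.Prime 2) := ⟨Nat.prime_two⟩
  haveI : IsSimpleGroup H := by
    haveI := isSimple_sl32
    exact φ.isSimpleGroup
  have hcH : Nat.card H = 168 := by rw [Nat.card_congr φ.toEquiv, card_sl32]
  have hcG : Nat.card G = 336 := by rw [card_G hH, hcH]
  have hno : ∀ M : Subgroup H, M.index ≠ 2 := by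
    intro M hM
    rcases (Subgroup.normal_of_index_eq_two hM).eq_bot_or_eq_top with e | e
    · rw [e, Subgroup.index_bot, hcH] at hM; omega
    · rw [e, Subgroup.index_top] at hM; omega
  set D := Subgroup.centralizer ({⟨c.j z0, hjH z0⟩} : Set H)
  obtain ⟨e⟩ := c.centH_equiv htH hjH
  have hD : Nat.card D = 8 := by rw [Nat.card_congr e.toEquiv, dihedral_card]
  have hDi : ¬ 2 ∣ D.index := by
    have := D.index_mul_card
    rw [hD, hcH] at this
    omega
  let P : Sylow 2 H := IsPGroup.toSylow (IsPGroup.of_card (n := 3) hD) hDi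
  let rH : H := ⟨c.j r0, hjH r0⟩
  let Q : Subgroup H := Subgroup.zpowers rH
  have hPD : (P : Subgroup H) = D := IsPGroup.toSylow_coe _ _
  have hQP : Q ≤ (P : Subgroup H) := by
    rw [Subgroup.zpowers_le, hPD, Subgroup.mem_centralizer_singleton_iff]
    exact Subtype.ext (c.z_commutes r0_comm (Or.inl rfl))
  have hQ : Nat.card Q = 4 := by
    rw [Nat.card_zpowers, ← Subgroup.orderOf_coe]
    exact (orderOf_injective c.j c.inj r0).trans orderOf_r0
  have hQi : Q.relIndex (P : Subgroup H) = 2 := by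
    have := Subgroup.card_mul_index (Q.subgroupOf (P : Subgroup H))
    rw [Nat.card_congr (Subgroup.subgroupOfEquivOfLe hQP).toEquiv, hQ, hPD, hD] at this
    rw [hPD]
    show (Q.subgroupOf D).index = 2
    omega
  let aH : H := ⟨c.j a0, hjH a0⟩
  have haH : orderOf aH = 2 := by
    rw [← Subgroup.orderOf_coe]
    refine orderOf_eq_prime ?_ fun h => a0_ne (c.inj (h.trans c.j.map_one.symm))
    show c.j a0 ^ 2 = 1
    rw [pow_two, ← map_mul, a0_sq, map_one]
  obtain ⟨g, hg⟩ := Involution.exists_conj_mem_of_no_index_two hno P Q hQP hQi aH haH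
  obtain ⟨n, hn⟩ := ((isOfFinOrder_of_finite rH).mem_powers_iff_mem_zpowers).2 hg
  have hga : (g : G) * c.j a0 * (g : G)⁻¹ = c.j z0 := by
    have h1 : (g : G) * c.j a0 * (g : G)⁻¹ = c.j (r0 ^ n) := by
      rw [map_pow]
      exact (congrArg Subtype.val hn).symm
    rw [pow_eq_pow_mod n r0_pow_four] at h1
    set m : Fin 4 := ⟨n % 4, Nat.mod_lt _ (by norm_num)⟩
    have h2 : c.j (r0 ^ (m : ℕ) * r0 ^ (m : ℕ)) = 1 := by
      rw [map_mul, ← h1]
      calc (g : G) * c.j a0 * (g : G)⁻¹ * ((g : G) * c.j a0 * (g : G)⁻¹)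
          = (g : G) * c.j (a0 * a0) * (g : G)⁻¹ := by rw [map_mul]; group
        _ = 1 := by rw [a0_sq, map_one]; group
    rcases r0_pow_mem m (c.inj (h2.trans c.j.map_one.symm)) with h3 | h3
    · rw [show n % 4 = (m : ℕ) from rfl, h3, map_one, conj_eq_one_iff] at h1
      exact absurd (c.inj (h1.trans c.j.map_one.symm)) a0_ne
    · rw [show n % 4 = (m : ℕ) from rfl, h3] at h1
      exact h1
  -- `t` is conjugate to `t * j a0`
  set w := (g : G) * c.t * (g : G)⁻¹ with hw
  have hwz : w * c.j z0 = c.j z0 * w := by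
    calc w * c.j z0 = (g : G) * (c.t * c.j a0) * (g : G)⁻¹ := by rw [hw, ← hga]; group
      _ = (g : G) * (c.j a0 * c.t) * (g : G)⁻¹ := by rw [c.comm]
      _ = c.j z0 * w := by rw [hw, ← hga]; group
  have hwH : w ∉ H := fun h => htH (by
    have := ‹H.Normal›.conj_mem _ h (g : G)⁻¹
    simpa [hw, mul_assoc] using this)
  obtain ⟨s, hs, hcase⟩ := c.centZ w hwz
  have hws : w = c.t * c.j s := hcase.resolve_left fun e => hwH (e ▸ hjH s)
  have hss : s * s = 1 := by
    apply c.inj
    rw [map_mul, map_one]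
    calc c.j s * c.j s = (c.t * c.t) * (c.j s * c.j s) := by rw [c.t_sq, one_mul]
      _ = c.t * (c.t * c.j s) * c.j s := by group
      _ = (c.t * c.j s) * (c.t * c.j s) := by rw [← c.comm_t_tj]; group
      _ = (g : G) * (c.t * c.t) * (g : G)⁻¹ := by rw [← hws, hw]; group
      _ = 1 := by rw [c.t_sq]; group
  have htw : IsConj c.t w := isConj_iff.2 ⟨g, rfl⟩
  have hta : IsConj c.t (c.t * c.j a0) := by
    rcases invol_cases s hs hss with rfl | ⟨p, rfl⟩ | ⟨p, rfl⟩
    · rw [map_one, mul_one] at hws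
      obtain ⟨u, hu⟩ := c.cent_inf htH hjH g.2 (mul_inv_eq_iff_eq_mul.1 hws)
      refine absurd ?_ (z0_not_conj_a0 u⁻¹)
      have : u * a0 * u⁻¹ = z0 := c.inj (by rw [map_mul, map_mul, map_inv, hu, hga])
      rw [← this]; group
    · rw [hws] at htw
      exact absurd (htw.trans (c.conj_tj z0 p).symm) (c.tz_not_conj hodd)
    · rw [hws] at htw
      exact htw.trans (c.conj_tj a0 p).symm
  -- the class of `t`
  let F : Option {p : Fin 4 × Fin 4 // p.1 < p.2} → {y : G // IsConj c.t y} := fun o =>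
    match o with
    | none => ⟨c.t, IsConj.refl _⟩
    | some p => ⟨c.t * c.j (Equiv.swap p.1.1 p.1.2), by
        obtain ⟨q, hq⟩ := conj_swap p.1.1 p.1.2 (ne_of_lt p.2)
        rw [← hq]
        exact hta.trans (c.conj_tj a0 q)⟩
  have hF : Function.Injective F := by
    rintro (_ | p) (_ | q) h <;> have h' := congrArg Subtype.val h
    · rfl
    · have h1 : c.j (Equiv.swap q.1.1 q.1.2) = c.j 1 := by
        rw [map_one]; exact mul_eq_left.1 h'.symm
      exact absurd (Equiv.swap_eq_one_iff.1 (c.inj h1)) (ne_of_lt q.2)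
    · have h1 : c.j (Equiv.swap p.1.1 p.1.2) = c.j 1 := by
        rw [map_one]; exact mul_eq_left.1 h'
      exact absurd (Equiv.swap_eq_one_iff.1 (c.inj h1)) (ne_of_lt p.2)
    · exact congrArg some (Subtype.ext (swap_inj _ _ p.2 q.2 (c.tj_inj h')))
  have hFs : Function.Surjective F := by
    refine ((Nat.bijective_iff_injective_and_card F).2 ⟨hF, ?_⟩).2
    have h1 := Involution.card_isConj_mul_card_centralizer c.t
    rw [c.card_cent, hcG] at h1
    have h2 : Nat.card (Option {p : Fin 4 × Fin 4 // p.1 < p.2}) = 7 := by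
      rw [Finite.card_option, card_swaps]
    omega
  set N := Subgroup.normalClosure ({c.t} : Set G)
  have hNC : N ≤ Subgroup.centralizer ({c.t} : Set G) := by
    refine (Subgroup.closure_le _).2 fun y hy => ?_
    obtain ⟨a, ha, hay⟩ := Group.mem_conjugatesOfSet_iff.1 hy
    rw [Set.mem_singleton_iff] at ha
    subst ha
    obtain ⟨o, ho⟩ := hFs ⟨y, hay⟩
    have ho' := congrArg Subtype.val ho
    rw [SetLike.mem_coe, Subgroup.mem_centralizer_singleton_iff]
    cases o with
    | none => simp only [F] at ho'; rw [← ho']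
    | some p => simp only [F] at ho'; rw [← ho']; exact c.comm_t_tj _
  rcases (inferInstance : (N.subgroupOf H).Normal).eq_bot_or_eq_top with hb | ht
  · rcases c.normal_eq_bot hH hjH N (by
      rw [← Subgroup.subgroupOf_map_subtype, hb, Subgroup.map_bot]) with h | h
    · exact c.t_ne (by
        rw [← Subgroup.mem_bot, ← h]; exact Subgroup.subset_normalClosure rfl)
    · have := c.card_cent
      rw [h, Subgroup.card_top, hcG] at this
      omega
  · have := c.card_inf_le htH hjH hNC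
    rw [ht, Subgroup.card_top, hcH] at this
    omega

include hH htH hjH in
theorem case_a6 (φ : H ≃* alternatingGroup (Fin 6)) :
    Subgroup.centralizer ({c.t} : Set G) = ⊤ ∨ Nonempty (G ≃* Equiv.Perm (Fin 6)) := by
  haveI hHn := Subgroup.normal_of_index_eq_two hH
  let cN : Equiv.Perm (Fin 6) →* MulAut (alternatingGroup (Fin 6)) := MulAut.conjNormal
  have hcN : Function.Injective cN := AltAut.conjNormal_injective (by simp)
  let Φ : G →* MulAut (alternatingGroup (Fin 6)) :=
    (MulAut.congr φ).toMonoidHom.comp MulAut.conjNormal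
  have hΦ : ∀ (x : G) (a : alternatingGroup (Fin 6)),
      (φ.symm (Φ x a) : G) = x * (φ.symm a : G) * x⁻¹ := by
    intro x a
    simp [Φ]
  have hker : Φ.ker ⊓ H = ⊥ := by
    refine eq_bot_iff.2 fun x ⟨hx, hxH⟩ => ?_
    have hcom : ∀ y ∈ H, x * y = y * x := by
      intro y hy
      have h := hΦ x (φ ⟨y, hy⟩)
      rw [MonoidHom.mem_ker.1 hx] at h
      simp only [MulAut.one_apply, MulEquiv.symm_apply_apply] at h
      exact (mul_inv_eq_iff_eq_mul.1 h.symm)
    obtain ⟨s, hs, hxs⟩ := c.centZ x (hcom _ (hjH z0))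
    have hxs' : x = c.j s := hxs.resolve_right fun e => htH (by
      simpa [e] using H.mul_mem hxH (H.inv_mem (hjH s)))
    rw [Subgroup.mem_bot, hxs', center_trivial s fun u => c.inj (by
      rw [map_mul, map_mul, ← hxs']; exact hcom _ (hjH u)), map_one]
  rcases c.normal_eq_bot hH hjH Φ.ker hker with hk | hk
  swap
  · exact Or.inl hk
  refine Or.inr ?_
  have hinj : Function.Injective Φ := (MonoidHom.ker_eq_bot_iff _).1 hk
  have hin : ∀ y ∈ H, Φ y ∈ cN.range := by
    intro y hy
    refine ⟨((φ ⟨y, hy⟩ : alternatingGroup (Fin 6)) : Equiv.Perm (Fin 6)), MulEquiv.ext fun a => ?_⟩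
    apply φ.symm.injective
    apply Subtype.ext
    rw [hΦ]
    show ((φ.symm (MulAut.conjNormal _ a) : H) : G) = _
    rw [MulAut.conjNormal_val, MulAut.conj_apply]
    simp
  obtain ⟨p, -, -, hpz, hp3, hp1⟩ := conj_triangle
  have ht : Φ c.t ∈ cN.range := by
    let ρ := φ ⟨c.j p, hjH p⟩
    have hρ : orderOf ρ = 3 := by
      haveI : Fact (Nat.Prime 3) := ⟨Nat.prime_three⟩
      rw [MulEquiv.orderOf_eq, ← Subgroup.orderOf_coe]
      exact (orderOf_injective c.j c.inj p).trans (orderOf_eq_prime hp3 hp1)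
    have hfix : Φ c.t ρ = ρ := by
      apply φ.symm.injective
      apply Subtype.ext
      rw [hΦ]
      simp only [ρ, MulEquiv.symm_apply_apply]
      rw [c.comm, mul_inv_cancel_right]
    exact AltAut.exists_conjNormal_eq (by simp) (Φ c.t) (threeCycle_of_fix _ hρ hfix)
  have hall : ∀ x, Φ x ∈ cN.range := by
    intro x
    by_cases hx : x ∈ H
    · exact hin x hx
    · have h := hin (c.t * x) ((Subgroup.mul_mem_iff_of_index_two hH).2
        ⟨fun e => absurd e htH, fun e => absurd e hx⟩)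
      rw [map_mul] at h
      exact (Subgroup.mul_mem_cancel_left _ ht).1 h
  let Ψ : G →* Equiv.Perm (Fin 6) :=
    (MonoidHom.ofInjective hcN).symm.toMonoidHom.comp (Φ.codRestrict cN.range hall)
  have hΨ : Function.Injective Ψ := fun a b h => hinj (by
    have := (MonoidHom.ofInjective hcN).symm.injective h
    exact congrArg Subtype.val this)
  refine ⟨MulEquiv.ofBijective Ψ ((Nat.bijective_iff_injective_and_card Ψ).2 ⟨hΨ, ?_⟩)⟩
  rw [card_G hH, Nat.card_congr φ.toEquiv, card_a6, Nat.card_eq_fintype_card, Fintype.card_perm,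
    Fintype.card_fin]
  rfl

include hH in
/-- The recognition theorem with `t` outside the subgroup of index two. -/
theorem case_notMem (hodd : ¬ 2 ∣ (Subgroup.centralizer ({c.j z0} : Set G)).index)
    (htH : c.t ∉ H) (hjH : ∀ s, c.j s ∈ H) :
    Subgroup.centralizer ({c.t} : Set G) = ⊤ ∨ Nonempty (G ≃* Equiv.Perm (Fin 6)) := by
  rcases Cfsg.Agent.S3035.result (⟨c.j z0, hjH z0⟩ : H) (c.z_invol_H hjH) (c.centH_equiv htH hjH)
    with h | ⟨⟨φ⟩⟩ | ⟨⟨φ⟩⟩ | ⟨⟨φ⟩⟩ | ⟨⟨φ⟩⟩
  · exfalso
    rw [c.oddCore_eq_bot hodd hH, sup_bot_eq] at h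
    obtain ⟨p, -, -, hp, -, -⟩ := conj_triangle
    have : (⟨c.j p, hjH p⟩ : H) ∈ Subgroup.centralizer ({⟨c.j z0, hjH z0⟩} : Set H) := by
      rw [h]; trivial
    have h' := congrArg Subtype.val (Subgroup.mem_centralizer_singleton_iff.1 this)
    exact hp (c.inj (by rw [map_mul, map_mul]; exact h'))
  · refine Or.inl (Subgroup.eq_top_of_card_eq _ ?_)
    rw [c.card_cent, card_G hH, Nat.card_congr φ.toEquiv, Nat.card_eq_fintype_card,
      Fintype.card_perm, Fintype.card_fin]
    rfl
  · exact Or.inl (c.case_s5 hH hjH htH φ)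
  · exact absurd (c.case_sl32 hH hjH htH hodd φ) not_false
  · exact c.case_a6 hH hjH htH φ

include hH in
/-- The recognition theorem. -/
theorem recognise (hodd : ¬ 2 ∣ (Subgroup.centralizer ({c.j z0} : Set G)).index) :
    Subgroup.centralizer ({c.t} : Set G) = ⊤ ∨ Nonempty (G ≃* Equiv.Perm (Fin 6)) := by
  by_cases htH : c.t ∈ H
  · exact Or.inl (c.case_mem hodd hH htH)
  · obtain ⟨d, hdt, hdz, hdj⟩ := c.exists_twist hH htH
    rw [← hdt]
    exact d.case_notMem hH (by rw [hdz]; exact hodd) (by rw [hdt]; exact htH) hdj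

end Setting

end Cfsg.Agent.Lib.SixRec90
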