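import Cfsg.Agent.Lib.SixRec90.Setup
import Cfsg.Agent.S0215
import Cfsg.Agent.S3035
import Cfsg.Agent.Lib.Involution.ThompsonTransfer
import Cfsg.Agent.Lib.LinGroup.Order
import Cfsg.Agent.Lib.LinGroup.Simple

/-!
Recognition of `Sym 6` by an involution centraliser `Z₂ × Sym 4`.
-/

set_option autoImplicit false

namespace Cfsg.Agent.Lib.SixRec90

open Cfsg

variable {G : Type*} [Group G]

namespace Setting

variable (c : Setting G)

theorem z_mem {H : Subgroup G} (hH : H.index = 2) : c.j z0 ∈ H := by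
  rw [← r0_sq, map_mul]
  exact Subgroup.mul_self_mem_of_index_two hH _

theorem conjZ_mem {H : Subgroup G} (hH : H.index = 2) (p : S4) : c.j (p * z0 * p⁻¹) ∈ H := by
  haveI := Subgroup.normal_of_index_eq_two hH
  rw [map_mul, map_mul, map_inv]
  exact ‹H.Normal›.conj_mem _ (c.z_mem hH) _

theorem z_ne : c.j z0 ≠ 1 := fun h => z0_ne (c.inj (h.trans c.j.map_one.symm))

theorem orderOf_t : orderOf c.t = 2 := orderOf_eq_prime (by rw [pow_two, c.t_sq]) c.t_ne

theorem orderOf_z : orderOf (c.j z0) = 2 :=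
  orderOf_eq_prime (by rw [pow_two, ← map_mul, z0_sq, map_one]) c.z_ne

theorem not_t_conj_z [Finite G] : ¬ IsConj c.t (c.j z0) := by
  intro h
  have h1 := Involution.card_isConj_mul_card_centralizer c.t
  have h2 := Involution.card_isConj_mul_card_centralizer (c.j z0)
  have h3 : {y : G // IsConj c.t y} ≃ {y : G // IsConj (c.j z0) y} :=
    Equiv.subtypeEquivRight fun y => ⟨fun e => h.symm.trans e, fun e => h.trans e⟩
  rw [Nat.card_congr h3, c.card_cent] at h1
  rw [c.card_centZ] at h2
  have : 0 < Nat.card {y : G // IsConj (c.j z0) y} :=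
    haveI : Nonempty {y : G // IsConj (c.j z0) y} := ⟨⟨_, IsConj.refl _⟩⟩
    Nat.card_pos
  omega

theorem conj_z0 (p : S4) : IsConj (c.j z0) (c.j (p * z0 * p⁻¹)) :=
  c.j.map_isConj (isConj_iff.2 ⟨p, rfl⟩)

theorem conj_tj (s p : S4) : IsConj (c.t * c.j s) (c.t * c.j (p * s * p⁻¹)) := by
  refine isConj_iff.2 ⟨c.j p, ?_⟩
  rw [map_mul, map_mul, map_inv, ← mul_assoc, c.comm_t_j, mul_assoc c.t, mul_assoc]

section IndexTwo

variable [Finite G] (hodd : ¬ 2 ∣ (Subgroup.centralizer ({c.j z0} : Set G)).index)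
  {H : Subgroup G} (hH : H.index = 2)

include hodd hH in
theorem oddCore_eq_bot : Cfsg.oddCore ↥H = ⊥ := by
  haveI : Fact (Nat.Prime 2) := ⟨Nat.prime_two⟩
  haveI := Subgroup.normal_of_index_eq_two hH
  have hn : ((Cfsg.oddCore ↥H).map H.subtype).Normal := by
    haveI : (Cfsg.oddCore ↥H).Characteristic := by
      rw [Subgroup.characteristic_iff_map_le]
      intro e
      haveI : ((Cfsg.oddCore ↥H).map e.toMonoidHom).Normal :=
        Subgroup.Normal.map inferInstance _ e.surjective
      exact Cfsg.Agent.Lib.PSolvable.le_pPrimeCore (by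
        rw [Subgroup.card_map_of_injective e.injective]
        exact Lib.PSolvable.pPrimeCore_coprime)
    infer_instance
  have hc : ¬ 2 ∣ Nat.card ((Cfsg.oddCore ↥H).map H.subtype) := by
    rw [Subgroup.card_map_of_injective H.subtype_injective]
    exact Nat.prime_two.coprime_iff_not_dvd.1 (Nat.Coprime.symm Lib.PSolvable.pPrimeCore_coprime)
  have := c.eq_bot_of_odd _ hc (fun s x hx => hn.conj_mem x hx (c.j s))
  exact (Subgroup.map_eq_bot_iff_of_injective _ H.subtype_injective).1 this

/-! ### the involution `t` lies in the subgroup of index two -/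

include hodd hH in
theorem case_mem (htH : c.t ∈ H) : Subgroup.centralizer ({c.t} : Set G) = ⊤ := by
  haveI : Fact (Nat.Prime 2) := ⟨Nat.prime_two⟩
  haveI hHn := Subgroup.normal_of_index_eq_two hH
  obtain ⟨p3, hp0, hp1, -, -, -⟩ := conj_triangle
  have hvm : ∀ s : S4, (s = 1 ∨ s = z0 ∨ s = v1 ∨ s = z0 * v1) → c.j s ∈ H := by
    rintro s (rfl | rfl | rfl | rfl)
    · rw [map_one]; exact H.one_mem
    · exact c.z_mem hH
    · rw [← hp0]; exact c.conjZ_mem hH _
    · rw [map_mul]; refine H.mul_mem (c.z_mem hH) ?_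
      rw [← hp0]; exact c.conjZ_mem hH _
  set T := Subgroup.centralizer ({c.j z0} : Set G) with hT
  have hTH : ¬ T ≤ H := fun hle =>
    hodd ((hH ▸ dvd_rfl : 2 ∣ H.index).trans (Subgroup.index_dvd_of_le hle))
  obtain ⟨w, hwT, hwH⟩ := Set.not_subset.1 hTH
  have hwt : w * c.t = c.t * w := c.centZ_t (Subgroup.mem_centralizer_singleton_iff.1 hwT)
  -- the elements of the trace
  have htrace : ∀ g ∈ T, g ∈ H → ∃ s : S4, (s = 1 ∨ s = z0 ∨ s = v1 ∨ s = z0 * v1) ∧
      (g = c.j s ∨ g = c.t * c.j s) := by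
    have hA : ∀ g ∈ (H ⊓ T), ∀ h ∈ T, h ∉ H → g * h ∉ H := fun g hg h _ hh e =>
      hh (by simpa using H.mul_mem (H.inv_mem hg.1) e)
    let E : {s : S4 // s = 1 ∨ s = z0 ∨ s = v1 ∨ s = z0 * v1} × Bool → ↥(H ⊓ T) := fun q =>
      ⟨cond q.2 (c.t * c.j q.1.1) (c.j q.1.1), by
        obtain ⟨⟨s, hs⟩, b⟩ := q
        have hs' : s * z0 = z0 * s := by
          rcases hs with rfl | rfl | rfl | rfl
          · simp
          · rfl
          · exact v1_comm
          · rw [mul_assoc, v1_comm]
        refine ⟨?_, Subgroup.mem_centralizer_singleton_iff.2 (c.z_commutes hs' ?_)⟩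
        · cases b
          · exact hvm s hs
          · exact H.mul_mem htH (hvm s hs)
        · cases b
          · exact Or.inl rfl
          · exact Or.inr rfl⟩
    have hEi : Function.Injective E := by
      rintro ⟨⟨s, hs⟩, b⟩ ⟨⟨s', hs'⟩, b'⟩ h
      have h' := congrArg Subtype.val h
      cases b <;> cases b'
      · exact Prod.ext (Subtype.ext (c.inj h')) rfl
      · exact absurd h' (c.j_ne_tj _ _)
      · exact absurd h'.symm (c.j_ne_tj _ _)
      · exact Prod.ext (Subtype.ext (c.tj_inj h')) rfl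
    have hc8 : Nat.card ↥(H ⊓ T) = 8 := by
      have hr : H.relIndex T = 2 := by
        have h1 : H.relIndex T ∣ 2 := hH ▸ Subgroup.relIndex_dvd_index_of_normal H T
        rcases (Nat.dvd_prime Nat.prime_two).1 h1 with e | e
        · exact absurd (Subgroup.relIndex_eq_one.1 e) hTH
        · exact e
      have := Subgroup.card_mul_index (H.subgroupOf T)
      rw [show (H.subgroupOf T).index = 2 from hr, c.card_centZ] at this
      have h2 : Nat.card (H.subgroupOf T) = Nat.card ↥(H ⊓ T) := by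
        rw [← Subgroup.card_map_of_injective T.subtype_injective, Subgroup.subgroupOf_map_subtype]
      omega
    have hEs : Function.Surjective E := by
      refine ((Nat.bijective_iff_injective_and_card E).2 ⟨hEi, ?_⟩).2
      rw [hc8, Nat.card_eq_fintype_card]
      decide +kernel
    intro g hg hgH
    obtain ⟨⟨⟨s, hs⟩, b⟩, hb⟩ := hEs ⟨g, hgH, hg⟩
    refine ⟨s, hs, ?_⟩
    have hb' := congrArg Subtype.val hb
    cases b
    · exact Or.inl hb'.symm
    · exact Or.inr hb'.symm
  -- a Sylow subgroup of `H`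
  obtain ⟨P, hP⟩ := c.exists_sylow hodd
  have hPH : ¬ 2 ∣ ((H ⊓ T).subgroupOf H).index := by
    intro h2
    have h1 : Nat.card H * 2 = Nat.card G := by rw [← hH]; exact H.card_mul_index
    have h2' : (T.index * 16) = Nat.card G := by rw [← c.card_centZ]; exact T.index_mul_card
    have h3 := ((H ⊓ T).subgroupOf H).card_mul_index
    have h4 : Nat.card ((H ⊓ T).subgroupOf H) * 2 = 16 := by
      have hr : H.relIndex T = 2 := by
        rcases (Nat.dvd_prime Nat.prime_two).1 (hH ▸ Subgroup.relIndex_dvd_index_of_normal H T)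
          with e | e
        · exact absurd (Subgroup.relIndex_eq_one.1 e) hTH
        · exact e
      have := Subgroup.card_mul_index (H.subgroupOf T)
      rw [show (H.subgroupOf T).index = 2 from hr, c.card_centZ,
        ← Subgroup.card_map_of_injective T.subtype_injective, Subgroup.subgroupOf_map_subtype] at this
      rw [← Subgroup.card_map_of_injective H.subtype_injective, Subgroup.subgroupOf_map_subtype,
        inf_eq_left.2 (inf_le_left : H ⊓ T ≤ H)]
      exact this
    apply hodd
    have h8 : Nat.card ((H ⊓ T).subgroupOf H) = 8 := by omega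
    rw [h8] at h3
    have : T.index = ((H ⊓ T).subgroupOf H).index := by omega
    rwa [this]
  have hPH2 : IsPGroup 2 ((H ⊓ T).subgroupOf H) := by
    have hT2 : IsPGroup 2 T := IsPGroup.of_card (n := 4) (by rw [c.card_centZ]; rfl)
    exact IsPGroup.of_equiv (hT2.to_le inf_le_right) (Subgroup.subgroupOfEquivOfLe inf_le_left).symm
  let Q : Sylow 2 H := IsPGroup.toSylow hPH2 hPH
  have hQmem : ∀ {x : H}, x ∈ Q ↔ (x : G) ∈ T := by
    intro x
    show x ∈ (Q : Subgroup H) ↔ _
    rw [IsPGroup.toSylow_coe, Subgroup.mem_subgroupOf]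
    exact ⟨fun h => h.2, fun h => ⟨x.2, h⟩⟩
  let u : H := ⟨c.t, htH⟩
  have huQ : u ∈ Q := hQmem.2 (Subgroup.mem_centralizer_singleton_iff.2
    (c.comm z0))
  have hiso : ∀ g : H, g * u * g⁻¹ ∈ Q → g * u * g⁻¹ = u := by
    intro g hg
    have hconj : IsConj c.t ((g * u * g⁻¹ : H) : G) := isConj_iff.2 ⟨g, rfl⟩
    obtain ⟨s, hs, hcase⟩ := htrace _ (hQmem.1 hg) (g * u * g⁻¹ : H).2
    refine Subtype.ext ?_
    show _ = c.t
    rcases hcase with e | e <;> rw [e] at hconj ⊢ <;> rcases hs with rfl | rfl | rfl | rfl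
    · rw [map_one, isConj_one_left] at hconj
      exact absurd hconj c.t_ne
    · exact absurd hconj c.not_t_conj_z
    · exact absurd (hconj.trans (hp0 ▸ c.conj_z0 p3).symm) c.not_t_conj_z
    · refine absurd (hconj.trans ?_) c.not_t_conj_z
      rw [← hp1, ← hp0]
      exact (IsConj.trans (c.conj_z0 p3) (c.j.map_isConj (isConj_iff.2 ⟨p3, rfl⟩))).symm
    · rw [map_one, mul_one]
    · exact absurd hconj (c.tz_not_conj hodd)
    · exact absurd (hconj.trans (hp0 ▸ c.conj_tj z0 p3).symm) (c.tz_not_conj hodd)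
    · refine absurd (hconj.trans ?_) (c.tz_not_conj hodd)
      rw [← hp1, ← hp0]
      exact (IsConj.trans (c.conj_tj z0 p3) (c.conj_tj _ p3)).symm
  obtain ⟨N, hN, hNodd, hNc⟩ := Cfsg.Agent.S0215.result Q u (by rw [← Subgroup.orderOf_coe]; exact c.orderOf_t) huQ hiso
  have hNb : N = ⊥ := by
    have : N ≤ Cfsg.oddCore ↥H := Cfsg.Agent.Lib.PSolvable.le_pPrimeCore (Nat.coprime_two_right.2 hNodd)
    rwa [c.oddCore_eq_bot hodd hH, le_bot_iff] at this
  refine eq_top_iff.2 fun x _ => ?_
  rw [Subgroup.mem_centralizer_singleton_iff]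
  have hH' : ∀ y ∈ H, y * c.t = c.t * y := by
    intro y hy
    have := hNc ⟨y, hy⟩
    rw [hNb, Subgroup.mem_bot] at this
    have h' := congrArg Subtype.val this
    simp only [u, Subgroup.coe_mul, InvMemClass.coe_inv, Subgroup.coe_one] at h'
    calc y * c.t = 1 * y * c.t := by rw [one_mul]
      _ = (c.t * y * c.t⁻¹ * y⁻¹) * y * c.t := by rw [h']
      _ = c.t * y := by group
  by_cases hx : x ∈ H
  · exact hH' x hx
  · have hxw : x * w ∈ H := (Subgroup.mul_mem_iff_of_index_two hH).2 ⟨fun h => absurd h hx, fun h => absurd h hwH⟩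
    have := hH' _ hxw
    calc x * c.t = x * (c.t * w) * w⁻¹ := by group
      _ = x * (w * c.t) * w⁻¹ := by rw [hwt]
      _ = (x * w * c.t) * w⁻¹ := by group
      _ = (c.t * (x * w)) * w⁻¹ := by rw [this]
      _ = c.t * x := by group

end IndexTwo

/-- Twisting the complement into the subgroup of index two. -/
theorem exists_twist {H : Subgroup G} (hH : H.index = 2) (htH : c.t ∉ H) :
    ∃ d : Setting G, d.t = c.t ∧ d.j z0 = c.j z0 ∧ ∀ s, d.j s ∈ H := by
  classical
  let f : S4 → G := fun s => if c.j s ∈ H then c.j s else c.t * c.j s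
  have hf : ∀ s, f s ∈ H := by
    intro s
    simp only [f]
    split_ifs with h
    · exact h
    · exact (Subgroup.mul_mem_iff_of_index_two hH).2 ⟨fun e => absurd e htH, fun e => absurd e h⟩
  have hcases : ∀ s, f s = c.j s ∨ f s = c.t * c.j s := by
    intro s; simp only [f]; split_ifs <;> simp
  have huniq : ∀ s g, g ∈ H → (g = c.j s ∨ g = c.t * c.j s) → g = f s := by
    intro s g hg hgs
    simp only [f]
    split_ifs with h
    · rcases hgs with rfl | rfl
      · rfl
      · exact absurd (by simpa using H.mul_mem hg (H.inv_mem h)) htH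
    · rcases hgs with rfl | rfl
      · exact absurd hg h
      · rfl
  have hmul : ∀ s u, f (s * u) = f s * f u := by
    intro s u
    refine (huniq _ _ (H.mul_mem (hf s) (hf u)) ?_).symm
    rcases hcases s with e | e <;> rcases hcases u with e' | e' <;> rw [e, e', map_mul]
    · exact Or.inl rfl
    · exact Or.inr (by rw [← mul_assoc, c.comm_t_j, mul_assoc])
    · exact Or.inr (by rw [mul_assoc])
    · exact Or.inl (by rw [mul_assoc, ← mul_assoc (c.j s), c.comm_t_j, ← mul_assoc, ← mul_assoc, c.t_sq, one_mul])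
  let j' : S4 →* G := MonoidHom.mk' f hmul
  have hj : ∀ s, j' s = c.j s ∨ j' s = c.t * c.j s := hcases
  have hswap : ∀ {g : G} {s : S4}, g = c.j s ∨ g = c.t * c.j s → g = j' s ∨ g = c.t * j' s := by
    intro g s h
    rcases hj s with e | e <;> rw [e]
    · exact h
    · rcases h with rfl | rfl
      · exact Or.inr (by rw [← mul_assoc, c.t_sq, one_mul])
      · exact Or.inl rfl
  have hz : j' z0 = c.j z0 := (huniq _ _ (c.z_mem hH) (Or.inl rfl)).symm
  refine ⟨⟨c.t, j', c.t_sq, c.t_ne, ?_, ?_, ?_, ?_, ?_⟩, rfl, hz, hf⟩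
  · intro s u h
    rcases hj s with e | e <;> rcases hj u with e' | e' <;> rw [e, e'] at h
    · exact c.inj h
    · exact absurd h (c.j_ne_tj _ _)
    · exact absurd h.symm (c.j_ne_tj _ _)
    · exact c.tj_inj h
  · intro s
    rcases hj s with e | e <;> rw [e]
    · exact c.comm s
    · exact (c.comm_t_tj s).symm
  · intro s h
    exact htH (h ▸ hf s)
  · intro g hg
    obtain ⟨s, hs⟩ := c.cent g hg
    exact ⟨s, hswap hs⟩
  · intro g hg
    rw [hz] at hg
    obtain ⟨s, hs, hs'⟩ := c.centZ g hg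
    exact ⟨s, hs, hswap hs'⟩

end Setting

end Cfsg.Agent.Lib.SixRec90
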