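import Cfsg.Agent.Lib.AltAut.ThreeCycle

/-!
Finite facts about `Sym 4` and `Alt 6` used to recognise `Sym 6` by an involution centraliser
`Z₂ × Sym 4`.
-/

set_option autoImplicit false

namespace Cfsg.Agent.Lib.SixRec90

open Equiv Equiv.Perm

abbrev S4 := Equiv.Perm (Fin 4)

/-- the double transposition -/
def z0 : S4 := Equiv.swap 0 1 * Equiv.swap 2 3
def v1 : S4 := Equiv.swap 0 2 * Equiv.swap 1 3
def a0 : S4 := Equiv.swap 0 1
def a1 : S4 := Equiv.swap 2 3
def r0 : S4 := Equiv.swap 0 2 * Equiv.swap 1 3 * Equiv.swap 0 1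

theorem z0_ne : z0 ≠ 1 := by decide +kernel
theorem z0_sq : z0 * z0 = 1 := by decide +kernel
theorem a0_sq : a0 * a0 = 1 := by decide +kernel
theorem a0_ne : a0 ≠ 1 := by decide +kernel
theorem v1_comm : v1 * z0 = z0 * v1 := by decide +kernel
theorem a0_comm : a0 * z0 = z0 * a0 := by decide +kernel
theorem r0_comm : r0 * z0 = z0 * r0 := by decide +kernel
theorem r0_sq : r0 * r0 = z0 := by decide +kernel
theorem z0_commutator : v1 * a0 * v1⁻¹ * a0⁻¹ = z0 := by decide +kernel

theorem commutator_mem : ∀ s u : S4, s * z0 = z0 * s → u * z0 = z0 * u →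
    s * u * s⁻¹ * u⁻¹ = 1 ∨ s * u * s⁻¹ * u⁻¹ = z0 := by decide +kernel

theorem sq_mem : ∀ s : S4, s * z0 = z0 * s → s * s = 1 ∨ s * s = z0 := by decide +kernel

theorem card_D : Nat.card {s : S4 // s * z0 = z0 * s} = 8 := by
  rw [Nat.card_eq_fintype_card]; decide +kernel

theorem cent_a0 : ∀ s : S4, s * a0 = a0 * s → s = 1 ∨ s = a0 ∨ s = a1 ∨ s = z0 := by
  decide +kernel

theorem a1_conj : ∃ p : S4, p * a1 * p⁻¹ = a0 := by decide +kernel
theorem conj_swap : ∀ i j : Fin 4, i ≠ j → ∃ p : S4, p * a0 * p⁻¹ = Equiv.swap i j := by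
  decide +kernel

theorem conj_triangle : ∃ p : S4, p * z0 * p⁻¹ = v1 ∧ p * v1 * p⁻¹ = z0 * v1 ∧
    p * z0 ≠ z0 * p ∧ p ^ 3 = 1 ∧ p ≠ 1 := by
  decide +kernel

theorem z0_not_conj_a0 : ∀ p : S4, p * z0 * p⁻¹ ≠ a0 := by decide +kernel

theorem z0_conj_mem : ∀ p : S4, p * z0 * p⁻¹ = z0 ∨ p * z0 * p⁻¹ = v1 ∨ p * z0 * p⁻¹ = z0 * v1 := by
  decide +kernel

theorem center_trivial : ∀ s : S4, (∀ u : S4, s * u = u * s) → s = 1 := by decide +kernel

theorem card_swaps : Nat.card {p : Fin 4 × Fin 4 // p.1 < p.2} = 6 := by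
  rw [Nat.card_eq_fintype_card]; decide +kernel

theorem swap_inj : ∀ p q : Fin 4 × Fin 4, p.1 < p.2 → q.1 < q.2 →
    Equiv.swap p.1 p.2 = Equiv.swap q.1 q.2 → p = q := by decide +kernel

/-- the embedding of the dihedral group of order eight -/
def dmap : DihedralGroup 4 → S4
  | DihedralGroup.r i => r0 ^ i.val
  | DihedralGroup.sr i => a0 * r0 ^ i.val

theorem dmap_mul : ∀ x y : DihedralGroup 4, dmap (x * y) = dmap x * dmap y := by decide +kernel
theorem dmap_inj : ∀ x y : DihedralGroup 4, dmap x = dmap y → x = y := by decide +kernel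
theorem dmap_mem : ∀ x : DihedralGroup 4, dmap x * z0 = z0 * dmap x := by decide +kernel
theorem dmap_surj : ∀ s : S4, s * z0 = z0 * s → ∃ x : DihedralGroup 4, dmap x = s := by
  decide +kernel

/-! ### The alternating group of degree six -/

/-- product of two three-cycles -/
def dbl : Perm (Fin 6) := (Equiv.swap 0 1 * Equiv.swap 1 2) * (Equiv.swap 3 4 * Equiv.swap 4 5)
def oddC : Perm (Fin 6) := Equiv.swap 0 3 * Equiv.swap 1 4 * Equiv.swap 2 5

theorem oddC_comm : oddC * dbl = dbl * oddC := by decide +kernel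
theorem oddC_sign : Perm.sign oddC = -1 := by decide +kernel
theorem dbl_sign : Perm.sign dbl = 1 := by decide +kernel
theorem dbl_type : dbl.cycleType = {3, 3} := by decide +kernel

theorem dbl_cases {x : Perm (Fin 6)} (h3 : orderOf x = 3) :
    x.IsThreeCycle ∨ x.cycleType = {3, 3} := by
  obtain ⟨n, hn⟩ := cycleType_prime_order (σ := x) (by rw [h3]; exact Nat.prime_three)
  rw [h3] at hn
  have hs : x.cycleType.sum ≤ 6 := by
    rw [sum_cycleType]; simpa using x.support.card_le_univ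
  rw [hn, Multiset.sum_replicate, smul_eq_mul] at hs
  have : n ≤ 1 := by omega
  interval_cases n
  · exact Or.inl hn
  · exact Or.inr hn

theorem isConj_dbl {a : alternatingGroup (Fin 6)}
    (h : (a : Perm (Fin 6)).cycleType = {3, 3}) :
    IsConj (⟨dbl, dbl_sign⟩ : alternatingGroup (Fin 6)) a := by
  obtain ⟨p, hp⟩ := isConj_iff.1 (isConj_iff_cycleType_eq.2 (dbl_type.trans h.symm))
  rcases Int.units_eq_one_or (Perm.sign p) with hs | hs
  · exact isConj_iff.2 ⟨⟨p, hs⟩, Subtype.ext hp⟩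
  · refine isConj_iff.2 ⟨⟨p * oddC, by rw [mem_alternatingGroup, map_mul, hs, oddC_sign]; rfl⟩,
      Subtype.ext ?_⟩
    show p * oddC * dbl * (p * oddC)⁻¹ = (a : Perm (Fin 6))
    calc p * oddC * dbl * (p * oddC)⁻¹ = p * (oddC * dbl * oddC⁻¹) * p⁻¹ := by group
      _ = p * dbl * p⁻¹ := by rw [oddC_comm]; group
      _ = _ := hp

theorem orderOf_image (τ : MulAut (alternatingGroup (Fin 6))) {a : alternatingGroup (Fin 6)}
    (h : orderOf a = 3) : orderOf ((τ a : alternatingGroup (Fin 6)) : Perm (Fin 6)) = 3 := by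
  rw [Subgroup.orderOf_coe, MulEquiv.orderOf_eq, h]

/-- An automorphism fixing an element of order three preserves the three-cycles. -/
theorem threeCycle_of_fix (τ : MulAut (alternatingGroup (Fin 6)))
    {ρ : alternatingGroup (Fin 6)} (hρ : orderOf ρ = 3) (hfix : τ ρ = ρ) :
    ∀ a : alternatingGroup (Fin 6), (a : Perm (Fin 6)).IsThreeCycle →
      ((τ a : alternatingGroup (Fin 6)) : Perm (Fin 6)).IsThreeCycle := by
  intro a ha
  by_contra hne
  have h5 : 5 ≤ Nat.card (Fin 6) := by simp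
  have ho : orderOf a = 3 := by rw [← Subgroup.orderOf_coe]; exact ha.orderOf
  have hd := (dbl_cases (orderOf_image τ ho)).resolve_left hne
  have hclass : ∀ b : alternatingGroup (Fin 6), (b : Perm (Fin 6)).IsThreeCycle →
      IsConj (τ a) (τ b) := fun b hb =>
    τ.toMonoidHom.map_isConj (alternatingGroup.isThreeCycle_isConj h5 ha hb)
  rcases dbl_cases (x := (ρ : Perm (Fin 6))) (by rw [Subgroup.orderOf_coe, hρ]) with h | h
  · have := hclass ρ h
    rw [hfix] at this
    obtain ⟨c, hc⟩ := isConj_iff.1 this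
    apply hne
    have hh : IsConj ((τ a : alternatingGroup (Fin 6)) : Perm (Fin 6)) (ρ : Perm (Fin 6)) :=
      (Subgroup.subtype _).map_isConj this
    exact (isConj_iff_cycleType_eq.1 hh).trans h
  · obtain ⟨c, hc⟩ := isConj_iff.1 ((isConj_dbl hd).symm.trans (isConj_dbl h))
    obtain ⟨d, rfl⟩ := τ.surjective c
    have h1 : τ (d * a * d⁻¹) = τ ρ := by rw [map_mul, map_mul, map_inv, hfix, hc]
    have h2 : IsConj (a : Perm (Fin 6)) (ρ : Perm (Fin 6)) :=
      (Subgroup.subtype _).map_isConj (isConj_iff.2 ⟨d, τ.injective h1⟩)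
    have := (isConj_iff_cycleType_eq.1 h2).symm.trans ha
    rw [h] at this
    exact absurd this (by decide)

end Cfsg.Agent.Lib.SixRec90
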