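import Cfsg.Agent.Lib.SixRec90.Model
import Cfsg.Agent.Lib.Involution.Basic

/-!
The setting: an involution `t` whose centraliser is `⟨t⟩ × Sym 4` such that the centraliser of the
square `z` of an element of order four is a Sylow 2-subgroup.
-/

set_option autoImplicit false

namespace Cfsg.Agent.Lib.SixRec90

variable {G : Type*} [Group G]

/-- the data -/
structure Setting (G : Type*) [Group G] where
  t : G
  j : S4 →* G
  t_sq : t * t = 1
  t_ne : t ≠ 1
  inj : Function.Injective j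
  comm : ∀ s, t * j s = j s * t
  notMem : ∀ s, j s ≠ t
  cent : ∀ g : G, g * t = t * g → ∃ s, g = j s ∨ g = t * j s
  centZ : ∀ g : G, g * j z0 = j z0 * g → ∃ s, s * z0 = z0 * s ∧ (g = j s ∨ g = t * j s)

namespace Setting

variable (c : Setting G)

theorem comm' (s : S4) : Commute c.t (c.j s) := c.comm s

theorem t_inv : c.t⁻¹ = c.t := inv_eq_of_mul_eq_one_right c.t_sq

theorem tj_inj {s u : S4} (h : c.t * c.j s = c.t * c.j u) : s = u := c.inj (mul_left_cancel h)

theorem j_ne_tj (s u : S4) : c.j s ≠ c.t * c.j u := fun h =>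
  c.notMem (s * u⁻¹) (by rw [map_mul, h, map_inv, mul_inv_cancel_right])

theorem comm_t_j (s : S4) : c.j s * c.t = c.t * c.j s := (c.comm s).symm

theorem comm_t_tj (s : S4) : c.t * c.j s * c.t = c.t * (c.t * c.j s) := by
  rw [mul_assoc, c.comm_t_j]

theorem z_commutes {s : S4} (h : s * z0 = z0 * s) {g : G} (hg : g = c.j s ∨ g = c.t * c.j s) :
    g * c.j z0 = c.j z0 * g := by
  have h1 : c.j s * c.j z0 = c.j z0 * c.j s := by rw [← map_mul, h, map_mul]
  rcases hg with rfl | rfl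
  · exact h1
  · rw [mul_assoc, h1, ← mul_assoc, c.comm, mul_assoc]

theorem centZ_t {g : G} (h : g * c.j z0 = c.j z0 * g) : g * c.t = c.t * g := by
  obtain ⟨s, -, rfl | rfl⟩ := c.centZ g h
  · exact c.comm_t_j s
  · exact c.comm_t_tj s

/-- The parametrisation of the centraliser of `t`. -/
noncomputable def centEquiv : Bool × S4 ≃ ↥(Subgroup.centralizer ({c.t} : Set G)) :=
  Equiv.ofBijective (fun p => ⟨cond p.1 (c.t * c.j p.2) (c.j p.2), by
      rw [Subgroup.mem_centralizer_singleton_iff]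
      obtain ⟨b, s⟩ := p
      cases b
      · exact c.comm_t_j s
      · exact c.comm_t_tj s⟩) ⟨by
    rintro ⟨b, s⟩ ⟨b', s'⟩ h
    have h' := congrArg Subtype.val h
    cases b <;> cases b'
    · exact Prod.ext rfl (c.inj h')
    · exact absurd h' (c.j_ne_tj _ _)
    · exact absurd h'.symm (c.j_ne_tj _ _)
    · exact Prod.ext rfl (c.tj_inj h'), by
    rintro ⟨g, hg⟩
    obtain ⟨s, rfl | rfl⟩ := c.cent g (Subgroup.mem_centralizer_singleton_iff.1 hg)
    · exact ⟨(false, s), rfl⟩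
    · exact ⟨(true, s), rfl⟩⟩

theorem card_cent : Nat.card (Subgroup.centralizer ({c.t} : Set G)) = 48 := by
  rw [← Nat.card_congr c.centEquiv, Nat.card_eq_fintype_card]
  decide +kernel

theorem card_centZ : Nat.card (Subgroup.centralizer ({c.j z0} : Set G)) = 16 := by
  have e : Bool × {s : S4 // s * z0 = z0 * s} ≃ ↥(Subgroup.centralizer ({c.j z0} : Set G)) :=
    Equiv.ofBijective (fun p => ⟨cond p.1 (c.t * c.j p.2.1) (c.j p.2.1), by
        rw [Subgroup.mem_centralizer_singleton_iff]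
        obtain ⟨b, s, hs⟩ := p
        cases b
        · exact c.z_commutes hs (Or.inl rfl)
        · exact c.z_commutes hs (Or.inr rfl)⟩) ⟨by
      rintro ⟨b, s⟩ ⟨b', s'⟩ h
      have h' := congrArg Subtype.val h
      cases b <;> cases b'
      · exact Prod.ext rfl (Subtype.ext (c.inj h'))
      · exact absurd h' (c.j_ne_tj _ _)
      · exact absurd h'.symm (c.j_ne_tj _ _)
      · exact Prod.ext rfl (Subtype.ext (c.tj_inj h')), by
      rintro ⟨g, hg⟩
      obtain ⟨s, hs, rfl | rfl⟩ := c.centZ g (Subgroup.mem_centralizer_singleton_iff.1 hg)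
      · exact ⟨(false, ⟨s, hs⟩), rfl⟩
      · exact ⟨(true, ⟨s, hs⟩), rfl⟩⟩
  rw [← Nat.card_congr e, Nat.card_prod, card_D, Nat.card_eq_fintype_card, Fintype.card_bool]

/-- The Sylow 2-subgroup has odd index. -/
theorem exists_sylow [Finite G] (h : ¬ 2 ∣ (Subgroup.centralizer ({c.j z0} : Set G)).index) :
    ∃ P : Sylow 2 G, (P : Subgroup G) = Subgroup.centralizer ({c.j z0} : Set G) := by
  haveI : Fact (Nat.Prime 2) := ⟨Nat.prime_two⟩
  exact ⟨IsPGroup.toSylow (IsPGroup.of_card (n := 4) (by rw [c.card_centZ]; rfl)) h,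
    IsPGroup.toSylow_coe _ _⟩

theorem tz_not_conj [Finite G] (h : ¬ 2 ∣ (Subgroup.centralizer ({c.j z0} : Set G)).index) :
    ¬ IsConj c.t (c.t * c.j z0) := by
  intro hc
  haveI : Fact (Nat.Prime 2) := ⟨Nat.prime_two⟩
  obtain ⟨P, hP⟩ := c.exists_sylow h
  obtain ⟨g, hg⟩ := isConj_iff.1 hc
  have hmem : ∀ {x : G}, x ∈ (P : Subgroup G) ↔ x * c.j z0 = c.j z0 * x := by
    intro x; rw [hP, Subgroup.mem_centralizer_singleton_iff]
  have hcomm : ∀ {x : G}, x ∈ (P : Subgroup G) → x * c.t = c.t * x := fun hx => c.centZ_t (hmem.1 hx)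
  have h1 : c.t ∈ Subgroup.centralizer ((P : Subgroup G) : Set G) :=
    Subgroup.mem_centralizer_iff.2 fun x hx => hcomm hx
  have h2 : g⁻¹⁻¹ * c.t * g⁻¹ ∈ Subgroup.centralizer ((P : Subgroup G) : Set G) := by
    rw [inv_inv, hg]
    refine Subgroup.mem_centralizer_iff.2 fun x hx => ?_
    rw [← mul_assoc, hcomm hx, mul_assoc, hmem.1 hx, mul_assoc]
  obtain ⟨n, hn, he⟩ := P.conj_eq_normalizer_conj_of_mem_centralizer c.t g⁻¹ h1 h2
  have hjm : ∀ s : S4, s * z0 = z0 * s → c.j s ∈ (P : Subgroup G) := fun s hs =>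
    hmem.2 (c.z_commutes hs (Or.inl rfl))
  have hcases : ∀ x ∈ (P : Subgroup G), x * x = 1 ∨ x * x = c.j z0 := by
    intro x hx
    obtain ⟨s, hs, hx'⟩ := c.centZ x (hmem.1 hx)
    have hxx : x * x = c.j (s * s) := by
      rw [map_mul]
      rcases hx' with rfl | rfl
      · rfl
      · rw [mul_assoc, ← mul_assoc (c.j s), c.comm_t_j, mul_assoc, ← mul_assoc, c.t_sq, one_mul]
    rcases sq_mem s hs with h' | h' <;> rw [hxx, h']
    · exact Or.inl (map_one _)
    · exact Or.inr rfl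
  have hz : n * c.j z0 * n⁻¹ = c.j z0 := by
    have := hcases _ ((Subgroup.mem_normalizer_iff.1 hn _).1 (hjm _ r0_comm))
    have e : n * c.j r0 * n⁻¹ * (n * c.j r0 * n⁻¹) = n * c.j (r0 * r0) * n⁻¹ := by
      rw [map_mul]; group
    rw [e, r0_sq] at this
    rcases this with h' | h'
    · exact absurd (c.inj ((conj_eq_one_iff.1 h').trans c.j.map_one.symm)) z0_ne
    · exact h'
  have hnt : n * c.t = c.t * n := c.centZ_t (mul_inv_eq_iff_eq_mul.1 hz)
  rw [inv_inv, hg, mul_assoc n⁻¹ c.t n, ← hnt, inv_mul_cancel_left] at he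
  apply z0_ne
  apply c.inj
  rw [map_one]
  exact mul_eq_left.1 he

/-- Subgroups of odd order normalised by the four group are trivial. -/
theorem eq_bot_of_odd [Finite G] (K : Subgroup G) (hodd : ¬ 2 ∣ Nat.card K)
    (hn : ∀ s : S4, ∀ x ∈ K, c.j s * x * (c.j s)⁻¹ ∈ K) : K = ⊥ := by
  obtain ⟨p, hp0, hp1, -, -, -⟩ := conj_triangle
  have key : ∀ p : S4, ∀ x ∈ K,
      c.j (p * z0 * p⁻¹) * x * (c.j (p * z0 * p⁻¹))⁻¹ = x⁻¹ := by
    intro p
    set s := p * z0 * p⁻¹ with hs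
    let f : K → K := fun x => ⟨(x : G)⁻¹ * (c.j s * x * (c.j s)⁻¹), K.mul_mem (K.inv_mem x.2) (hn s x x.2)⟩
    have hfix : ∀ y ∈ K, c.j s * y * (c.j s)⁻¹ = y → y = 1 := by
      intro y hy hcomm
      have hcomm' : c.j s * y = y * c.j s := mul_inv_eq_iff_eq_mul.1 hcomm
      have hy' : (c.j p)⁻¹ * y * c.j p ∈ Subgroup.centralizer ({c.j z0} : Set G) := by
        rw [Subgroup.mem_centralizer_singleton_iff]
        have : c.j z0 = (c.j p)⁻¹ * c.j s * c.j p := by rw [hs, map_mul, map_mul, map_inv]; group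
        rw [this]
        calc (c.j p)⁻¹ * y * c.j p * ((c.j p)⁻¹ * c.j s * c.j p)
            = (c.j p)⁻¹ * (y * c.j s) * c.j p := by group
          _ = (c.j p)⁻¹ * (c.j s * y) * c.j p := by rw [hcomm']
          _ = _ := by group
      have h1 : orderOf y ∣ 16 := by
        have h16 : ((c.j p)⁻¹ * y * c.j p) ^ 16 = 1 := by
          have := pow_card_eq_one' (x := (⟨_, hy'⟩ : Subgroup.centralizer ({c.j z0} : Set G)))
          rw [c.card_centZ] at this
          simpa using congrArg Subtype.val this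
        refine orderOf_dvd_of_pow_eq_one ?_
        have h' : ((c.j p)⁻¹ * y * c.j p) ^ 16 = (c.j p)⁻¹ * y ^ 16 * c.j p := by
          have h'' := conj_pow (a := (c.j p)⁻¹) (b := y) (i := 16)
          rwa [inv_inv] at h''
        rw [h'] at h16
        calc y ^ 16 = c.j p * ((c.j p)⁻¹ * y ^ 16 * c.j p) * (c.j p)⁻¹ := by group
          _ = 1 := by rw [h16]; group
      have h2 : orderOf y ∣ Nat.card K := Subgroup.orderOf_dvd_natCard K hy
      have h3 : Nat.Coprime 16 (Nat.card K) :=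
        (Nat.Coprime.pow_left 4 (Nat.prime_two.coprime_iff_not_dvd.2 hodd) : Nat.Coprime (2 ^ 4) _)
      exact orderOf_eq_one_iff.1 (Nat.eq_one_of_dvd_coprimes h3 h1 h2)
    have hinj : Function.Injective f := by
      intro x y h
      have h' := congrArg Subtype.val h
      simp only [f] at h'
      refine Subtype.ext ?_
      have h4 := hfix ((y : G) * (x : G)⁻¹) (K.mul_mem y.2 (K.inv_mem x.2)) (by
        calc c.j s * ((y : G) * (x : G)⁻¹) * (c.j s)⁻¹
            = (c.j s * y * (c.j s)⁻¹) * (c.j s * x * (c.j s)⁻¹)⁻¹ := by group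
          _ = ((y : G) * ((y : G)⁻¹ * (c.j s * y * (c.j s)⁻¹))) *
              ((x : G) * ((x : G)⁻¹ * (c.j s * x * (c.j s)⁻¹)))⁻¹ := by group
          _ = (y : G) * (x : G)⁻¹ := by rw [h']; group)
      exact (mul_inv_eq_one.1 h4).symm
    intro y hy
    obtain ⟨x, hx⟩ := Finite.surjective_of_injective hinj ⟨y, hy⟩
    have hx' : (x : G)⁻¹ * (c.j s * x * (c.j s)⁻¹) = y := congrArg Subtype.val hx
    have hss : c.j s * c.j s = 1 := by
      rw [← map_mul, hs, show p * z0 * p⁻¹ * (p * z0 * p⁻¹) = p * (z0 * z0) * p⁻¹ by group, z0_sq,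
        mul_one, mul_inv_cancel, map_one]
    have hsi : (c.j s)⁻¹ = c.j s := inv_eq_of_mul_eq_one_right hss
    rw [← hx', hsi]
    calc c.j s * ((x : G)⁻¹ * (c.j s * x * c.j s)) * c.j s
        = c.j s * (x : G)⁻¹ * c.j s * x * (c.j s * c.j s) := by group
      _ = ((x : G)⁻¹ * (c.j s * x * c.j s))⁻¹ := by
        rw [hss, mul_one, mul_inv_rev, inv_inv, mul_inv_rev, mul_inv_rev, hsi]; group
  refine eq_bot_iff.2 fun x hx => ?_
  have h0 := key 1 x hx
  have h1 := key p x hx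
  have h2 := key (p * p) x hx
  simp only [one_mul, inv_one, mul_one] at h0
  rw [hp0] at h1
  rw [show p * p * z0 * (p * p)⁻¹ = p * (p * z0 * p⁻¹) * p⁻¹ by group, hp0, hp1, map_mul] at h2
  have h3 : c.j z0 * c.j v1 * x * (c.j z0 * c.j v1)⁻¹ = x := by
    calc c.j z0 * c.j v1 * x * (c.j z0 * c.j v1)⁻¹
        = c.j z0 * (c.j v1 * x * (c.j v1)⁻¹) * (c.j z0)⁻¹ := by group
      _ = (c.j z0 * x * (c.j z0)⁻¹)⁻¹ := by rw [h1]; group
      _ = x := by rw [h0, inv_inv]
  rw [h3] at h2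
  rw [Subgroup.mem_bot]
  have h4 : x ^ 2 = 1 := by rw [pow_two]; exact mul_eq_one_iff_eq_inv.2 h2
  exact orderOf_eq_one_iff.1 (Nat.eq_one_of_dvd_coprimes
    (Nat.prime_two.coprime_iff_not_dvd.2 hodd) (orderOf_dvd_of_pow_eq_one h4)
    (Subgroup.orderOf_dvd_natCard K hx))

end Setting

end Cfsg.Agent.Lib.SixRec90
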